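import Mathlib.RingTheory.Artinian.Module
import Mathlib.RingTheory.FiniteLength
import Mathlib.LinearAlgebra.TensorProduct.Pi
import Mathlib.LinearAlgebra.TensorProduct.RightExactness
import Mathlib.Algebra.Module.FinitePresentation

/-! Exactness of sequential limits of Artinian modules, and commutation with `⊗ N`. -/

open TensorProduct

namespace Groth.Agent.FinLenLim

universe u

variable {R : Type u} [CommRing R]

/-- Compatible preimages exist in sequential systems of Artinian modules. -/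
theorem exists_lift {B C : ℕ → Type*} [∀ n, AddCommGroup (B n)] [∀ n, Module R (B n)]
    [∀ n, AddCommGroup (C n)] [∀ n, Module R (C n)] [∀ n, IsArtinian R (B n)]
    (tB : ∀ {m n : ℕ}, m ≤ n → B n →ₗ[R] B m) (tC : ∀ {m n : ℕ}, m ≤ n → C n →ₗ[R] C m)
    (hrefl : ∀ n (x : B n), tB (le_refl n) x = x)
    (htr : ∀ {l m n : ℕ} (h : l ≤ m) (h' : m ≤ n) (x : B n), tB h (tB h' x) = tB (h.trans h') x)
    (f : ∀ n, B n →ₗ[R] C n)
    (hf : ∀ {m n : ℕ} (h : m ≤ n) (x : B n), f m (tB h x) = tC h (f n x))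
    (c : ∀ n, C n) (hc : ∀ {m n : ℕ} (h : m ≤ n), tC h (c n) = c m)
    (hrange : ∀ n, c n ∈ LinearMap.range (f n)) :
    ∃ b : ∀ n, B n, (∀ {m n : ℕ} (h : m ≤ n), tB h (b n) = b m) ∧ ∀ n, f n (b n) = c n := by
  classical
  let E : ∀ n, Set (B n) := fun n => {b | ∀ m (h : n ≤ m), ∃ x, f m x = c m ∧ tB h x = b}
  have hN : ∀ n, ∃ N, ∃ hn : n ≤ N, ∀ x, f N x = c N → tB hn x ∈ E n := by
    intro n
    let g : ℕ →o (Submodule R (B n))ᵒᵈ :=
      ⟨fun k => OrderDual.toDual ((LinearMap.ker (f (n + k))).map (tB (Nat.le_add_right n k))),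
        fun k k' hk => by
          rintro _ ⟨x, hx, rfl⟩
          refine ⟨tB (Nat.add_le_add_left hk n) x, ?_, htr _ _ x⟩
          show f _ _ = 0
          rw [hf, show f _ x = 0 from hx, map_zero]⟩
    obtain ⟨k, hk⟩ := IsArtinian.monotone_stabilizes g
    refine ⟨n + k, Nat.le_add_right n k, fun x hx m hm => ?_⟩
    rcases le_total m (n + k) with h | h
    · exact ⟨tB h x, by rw [hf, hx, hc], htr _ _ _⟩
    · obtain ⟨y, hy⟩ := hrange m
      have h0 : tB h y - x ∈ LinearMap.ker (f (n + k)) := by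
        rw [LinearMap.mem_ker, map_sub, hf, hy, hc, hx, sub_self]
      obtain ⟨j, rfl⟩ : ∃ j, m = n + j := ⟨m - n, by omega⟩
      have h1 : tB (Nat.le_add_right n k) (tB h y - x) ∈ OrderDual.ofDual (g j) := by
        rw [← hk j (by omega)]
        exact ⟨_, h0, rfl⟩
      obtain ⟨z, hz, hze⟩ := h1
      refine ⟨y - z, by rw [map_sub, hy, show f _ z = 0 from hz, sub_zero], ?_⟩
      rw [map_sub, hze, map_sub, htr]
      abel
  choose N hN' hNE using hN
  have hne : ∀ n, ∃ b, b ∈ E n := fun n => by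
    obtain ⟨x, hx⟩ := hrange (N n)
    exact ⟨_, hNE n x hx⟩
  have hstep : ∀ n (b : E n), ∃ b' : E (n + 1), tB (Nat.le_succ n) b'.1 = b.1 := fun n b => by
    obtain ⟨x, hx, hxb⟩ := b.2 (N (n + 1)) ((Nat.le_succ n).trans (hN' _))
    exact ⟨⟨_, hNE _ x hx⟩, (htr _ _ x).trans hxb⟩
  choose g hg using hstep
  choose b₀ hb₀ using hne
  let b : ∀ n, E n := fun n => Nat.rec (motive := fun n => E n) ⟨b₀ 0, hb₀ 0⟩ (fun n z => g n z) n
  refine ⟨fun n => (b n).1, fun {m n} h => ?_, fun n => ?_⟩
  · induction h with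
    | refl => exact hrefl _ _
    | @step k hk ih =>
      have e : tB (Nat.le_succ k) (b (k + 1)).1 = (b k).1 := hg k (b k)
      have ih' : tB hk (b k).1 = (b m).1 := ih
      show tB _ (b (k + 1)).1 = (b m).1
      rw [← ih', ← e, htr]
  · obtain ⟨x, hx, e⟩ := (b n).2 n le_rfl
    rw [hrefl] at e
    show f n (b n).1 = c n
    rw [← e, hx]

/-- `(lim M) ⊗ N = lim (M ⊗ N)`, elementwise. -/
theorem tensor_bijective {M : ℕ → Type u} [∀ n, AddCommGroup (M n)] [∀ n, Module R (M n)]
    [∀ n, IsArtinian R (M n)]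
    (t : ∀ {m n : ℕ}, m ≤ n → M n →ₗ[R] M m)
    (hrefl : ∀ n (x : M n), t (le_refl n) x = x)
    (htr : ∀ {l m n : ℕ} (h : l ≤ m) (h' : m ≤ n) (x : M n), t h (t h' x) = t (h.trans h') x)
    {L : Type u} [AddCommGroup L] [Module R L] (π : ∀ n, L →ₗ[R] M n)
    (hπ : ∀ {m n : ℕ} (h : m ≤ n) (x : L), t h (π n x) = π m x)
    (hext : ∀ x : L, (∀ n, π n x = 0) → x = 0)
    (hmk : ∀ s : ∀ n, M n, (∀ {m n : ℕ} (h : m ≤ n), t h (s n) = s m) → ∃ x : L, ∀ n, π n x = s n)
    (N : Type u) [AddCommGroup N] [Module R N] [Module.FinitePresentation R N] :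
    (∀ z : L ⊗[R] N, (∀ n, (π n).rTensor N z = 0) → z = 0) ∧
    ∀ w : ∀ n, M n ⊗[R] N, (∀ {m n : ℕ} (h : m ≤ n), (t h).rTensor N (w n) = w m) →
      ∃ z : L ⊗[R] N, ∀ n, (π n).rTensor N z = w n := by
  classical
  -- the free case
  have key : ∀ (k : ℕ) {A B : Type u} [AddCommGroup A] [Module R A] [AddCommGroup B] [Module R B]
      (f : A →ₗ[R] B) (z : A ⊗[R] (Fin k → R)) (j : Fin k),
      piScalarRight R R B (Fin k) (f.rTensor _ z) j = f (piScalarRight R R A (Fin k) z j) := by
    intro k A B _ _ _ _ f z j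
    induction z using TensorProduct.induction_on with
    | zero => simp
    | tmul a v => simp
    | add a b ha hb => rw [map_add, map_add, map_add, Pi.add_apply, Pi.add_apply, map_add, ha, hb]
  have free_ext : ∀ (k : ℕ) (z : L ⊗[R] (Fin k → R)), (∀ n, (π n).rTensor _ z = 0) → z = 0 := by
    intro k z hz
    apply (piScalarRight R R L (Fin k)).injective
    rw [map_zero]
    ext j
    refine hext _ fun n => ?_
    rw [← key, hz, map_zero]
    rfl
  have free_mk : ∀ (k : ℕ) (w : ∀ n, M n ⊗[R] (Fin k → R)),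
      (∀ {m n : ℕ} (h : m ≤ n), (t h).rTensor _ (w n) = w m) →
      ∃ z : L ⊗[R] (Fin k → R), ∀ n, (π n).rTensor _ z = w n := by
    intro k w hw
    have : ∀ j, ∃ x : L, ∀ n, π n x = piScalarRight R R (M n) (Fin k) (w n) j := fun j =>
      hmk _ fun {m n} h => by rw [← key, hw h]
    choose x hx using this
    refine ⟨(piScalarRight R R L (Fin k)).symm x, fun n => ?_⟩
    apply (piScalarRight R R (M n) (Fin k)).injective
    ext j
    rw [key, LinearEquiv.apply_symm_apply, hx]
  have art : ∀ (k n : ℕ), IsArtinian R (M n ⊗[R] (Fin k → R)) := fun k n =>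
    isArtinian_of_linearEquiv (piScalarRight R R (M n) (Fin k)).symm
  have rT : ∀ {X : Type u} [AddCommGroup X] [Module R X] {l m n : ℕ} (h : l ≤ m) (h' : m ≤ n)
      (x : M n ⊗[R] X), (t h).rTensor X ((t h').rTensor X x) = (t (h.trans h')).rTensor X x := by
    intro X _ _ l m n h h' x
    rw [← LinearMap.rTensor_comp_apply,
      show (t h).comp (t h') = t (h.trans h') from LinearMap.ext (htr h h')]
  have rR : ∀ {X : Type u} [AddCommGroup X] [Module R X] (n : ℕ) (x : M n ⊗[R] X),
      (t (le_refl n)).rTensor X x = x := by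
    intro X _ _ n x
    rw [show t (le_refl n) = LinearMap.id from LinearMap.ext (hrefl n), LinearMap.rTensor_id_apply]
  have comm : ∀ {X Y : Type u} [AddCommGroup X] [Module R X] [AddCommGroup Y] [Module R Y]
      {A B : Type u} [AddCommGroup A] [Module R A] [AddCommGroup B] [Module R B]
      (g : A →ₗ[R] B) (q : X →ₗ[R] Y) (x : A ⊗[R] X),
      q.lTensor B (g.rTensor X x) = g.rTensor Y (q.lTensor A x) := by
    intros
    rw [← LinearMap.comp_apply, ← LinearMap.comp_apply, LinearMap.lTensor_comp_rTensor,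
      LinearMap.rTensor_comp_lTensor]
  obtain ⟨b, K, e, hK⟩ := Module.FinitePresentation.exists_fin R N
  obtain ⟨a, v, hv⟩ := Submodule.fg_iff_exists_fin_generating_family.mp hK
  let p : (Fin a → R) →ₗ[R] (Fin b → R) := Fintype.linearCombination R v
  let q : (Fin b → R) →ₗ[R] N := e.symm.toLinearMap ∘ₗ K.mkQ
  have hq : Function.Surjective q := e.symm.surjective.comp K.mkQ_surjective
  have hpq : Function.Exact p q := by
    rw [LinearMap.exact_iff]
    simp [q, p, Fintype.range_linearCombination, hv, LinearMap.ker_comp]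
  have ex : ∀ (A : Type u) [AddCommGroup A] [Module R A], Function.Exact (p.lTensor A) (q.lTensor A) :=
    fun A _ _ => lTensor_exact A hpq hq
  constructor
  · intro z hz
    obtain ⟨y, rfl⟩ := LinearMap.lTensor_surjective L hq z
    have := art a
    obtain ⟨x, hx, hxp⟩ := exists_lift (R := R) (B := fun n => M n ⊗[R] (Fin a → R))
      (C := fun n => M n ⊗[R] (Fin b → R))
      (fun h => (t h).rTensor _) (fun h => (t h).rTensor _) rR rT (fun n => p.lTensor _)
      (fun h x => comm _ p x) (fun n => (π n).rTensor _ y)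
      (fun h => by
        rw [← LinearMap.rTensor_comp_apply]
        exact congrArg (fun f => LinearMap.rTensor _ f y) (LinearMap.ext (hπ h)))
      (fun n => ((ex (M n)) _).mp (by rw [comm]; exact hz n))
    obtain ⟨x', hx'⟩ := free_mk a x hx
    have : y = p.lTensor L x' := sub_eq_zero.mp <| free_ext b _ fun n => by
      rw [map_sub, ← comm, hx', hxp, sub_self]
    rw [this]
    exact (ex L).apply_apply_eq_zero x'
  · intro w hw
    have := art b
    obtain ⟨y, hy, hyq⟩ := exists_lift (R := R) (B := fun n => M n ⊗[R] (Fin b → R))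
      (C := fun n => M n ⊗[R] N)
      (fun h => (t h).rTensor _) (fun h => (t h).rTensor _) rR rT (fun n => q.lTensor _)
      (fun h x => comm _ q x) w hw
      (fun n => LinearMap.lTensor_surjective (M n) hq (w n))
    obtain ⟨y', hy'⟩ := free_mk b y hy
    exact ⟨q.lTensor L y', fun n => by rw [← comm, hy', hyq]⟩

end Groth.Agent.FinLenLim
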